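import Cfsg.Agent.H445.Rows
import Cfsg.Agent.H445.Comp
import Cfsg.Agent.OddHalf.Quat.GoodAll
import Cfsg.Agent.OddHalf.Quat.RowPSL
import Cfsg.Agent.OddHalf.Quat.RowPSU
import Cfsg.Agent.SmallSimple.PSLTwoPart

/-!
# S3223: `LRow` for `L₂(q)`, `L₃(q)`, `U₃(q)`, `Sz(q)` (task 878, helper587)
-/

set_option autoImplicit false
set_option linter.unusedSectionVars false

namespace Cfsg.Agent.H587.TCR

open Subgroup Cfsg Cfsg.Agent.H445
open Cfsg.Agent.OddHalf.Quat (XZ Tr Loc XZs)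

universe u

section gen

variable {L : Type*} [Group L] [Finite L] [IsSimpleGroup L]

omit [Finite L] [IsSimpleGroup L] in
theorem not_comm_of_Tr {S : Subgroup L} (ht : Tr S) : ¬ IsMulCommutative L := by
  intro h
  obtain ⟨x, hx, y, hy, hx1, hy1, hxy⟩ := ht.two
  obtain ⟨r, -, hr⟩ := ht.tr x hx y hy hx1 hy1
  apply hxy
  rw [← hr, h.is_comm.comm r x, mul_inv_cancel_right]

theorem center_eq_bot {L : Type*} [Group L] [IsSimpleGroup L] (h : ¬ IsMulCommutative L) : center L = ⊥ := by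
  rcases IsSimpleGroup.eq_bot_or_eq_top_of_normal (center L) inferInstance with h1 | h1
  · exact h1
  · exact absurd ⟨⟨fun a b => (mem_center_iff.1 (h1 ▸ mem_top b) a)⟩⟩ h

theorem lrow_of_Tr (hL : IsChevSimple 2 L) (hcard : Nat.card L ≠ 360) (S : Sylow 2 L) (ht : Tr (S : Subgroup L)) :
    LRow L := by
  have hna := not_comm_of_Tr ht
  refine LRow.of_Tr (center_eq_bot hna) (not_twoClosed_of_simple hna) (sylInn_chev hL ?_) S ht
  rintro ⟨e⟩
  apply hcard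
  have : Nontrivial (Fin 6) := inferInstance
  rw [Nat.card_congr e.toEquiv]
  have h := two_mul_nat_card_alternatingGroup (α := Fin 6)
  rw [Nat.card_perm, Nat.card_eq_fintype_card (α := Fin 6), Fintype.card_fin] at h
  have h2 : Nat.factorial 6 = 720 := rfl
  omega

end gen

theorem four_le {a : ℕ} (ha : 2 ≤ a) : 4 ≤ 2 ^ a :=
  calc 4 = 2 ^ 2 := by norm_num
    _ ≤ 2 ^ a := Nat.pow_le_pow_right (by norm_num) ha

variable {X : Type u} [Group X] [Finite X] [IsSimpleGroup X]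

omit [Finite X] in
theorem simple_of_equiv {L : Type*} [Group L] (e : X ≃* L) : IsSimpleGroup L :=
  e.symm.isSimpleGroup

theorem not_360_of_dvd {n : ℕ} (h : 16 ∣ n) : n ≠ 360 := by
  rintro rfl
  revert h
  norm_num

/-- `L₂(q)` -/
theorem lrow_l2 {F : Type} [Field F] [Fintype F] {a : ℕ} (ha : 2 ≤ a) (hF : Fintype.card F = 2 ^ a)
    (e : X ≃* Matrix.ProjectiveSpecialLinearGroup (Fin 2) F) : LRow X := by
  have hp2 : Fact (Nat.Prime 2) := ⟨Nat.prime_two⟩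
  have hc2 : CharP F 2 := charP_of_card_eq_prime_pow hF
  have hF4 : 4 ≤ Fintype.card F := by rw [hF]; exact four_le ha
  have hs : IsSimpleGroup (Matrix.ProjectiveSpecialLinearGroup (Fin 2) F) := simple_of_equiv e
  obtain ⟨S, hS⟩ := Cfsg.Agent.ClassicalGeometry.AutPSL.SylowU.exists_sylow (F := F) 2 2
  have hT := Cfsg.Agent.OddHalf.Quat.PSLRow.tr (by omega) hF4 S hS
  refine LRow.of_equiv e.symm (lrow_of_Tr ?_ ?_ S hT)
  · exact Or.inl (Or.inl ⟨F, inferInstance, inferInstance, hc2, 2, le_rfl, fun _ => hF4, ⟨MulEquiv.refl _⟩⟩)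
  · have hev : Even (Fintype.card F) := by rw [hF]; exact (even_two.pow_of_ne_zero (by omega))
    rw [Cfsg.Agent.SmallSimple.PSLTwoPart.card_psl_two_even hev, hF]
    rcases (show a = 2 ∨ a = 3 ∨ 4 ≤ a by omega) with rfl | rfl | h4
    · norm_num
    · norm_num
    · apply not_360_of_dvd
      refine Dvd.dvd.mul_right ?_ _
      exact (show (16 : ℕ) = 2 ^ 4 by norm_num) ▸ pow_dvd_pow 2 h4

/-- `L₃(q)` -/
theorem lrow_l3 {F : Type} [Field F] [Fintype F] {a : ℕ} (ha : 2 ≤ a) (hF : Fintype.card F = 2 ^ a)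
    (e : X ≃* Matrix.ProjectiveSpecialLinearGroup (Fin 3) F) : LRow X := by
  have hp2 : Fact (Nat.Prime 2) := ⟨Nat.prime_two⟩
  have hc2 : CharP F 2 := charP_of_card_eq_prime_pow hF
  have hF4 : 4 ≤ Fintype.card F := by rw [hF]; exact four_le ha
  have hs : IsSimpleGroup (Matrix.ProjectiveSpecialLinearGroup (Fin 3) F) := simple_of_equiv e
  obtain ⟨S, hS⟩ := Cfsg.Agent.ClassicalGeometry.AutPSL.SylowU.exists_sylow (F := F) 3 2
  have hT := Cfsg.Agent.OddHalf.Quat.PSLRow.tr (by omega) hF4 S hS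
  refine LRow.of_equiv e.symm (lrow_of_Tr ?_ ?_ S hT)
  · exact Or.inl (Or.inl ⟨F, inferInstance, inferInstance, hc2, 3, by omega, fun h => by omega, ⟨MulEquiv.refl _⟩⟩)
  · apply not_360_of_dvd
    have h1 := Subgroup.card_subgroup_dvd_card
      ((Cfsg.Agent.ClassicalGeometry.AutPSL.SylowU.upper 3 F).map Cfsg.Agent.ClassicalGeometry.AutPSL.Root.pr)
    rw [Cfsg.Agent.ClassicalGeometry.AutPSL.SylowU.card_map_upper, hF, ← pow_mul] at h1
    refine dvd_trans ?_ h1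
    exact (show (16 : ℕ) = 2 ^ 4 by norm_num) ▸ pow_dvd_pow 2 (by omega)

/-- `U₃(q)` -/
theorem lrow_u3 {F : Type} [Field F] [Fintype F] {a : ℕ} (ha : 2 ≤ a) (hF : Fintype.card F = (2 ^ a) ^ 2)
    (e : X ≃* Cfsg.PSU 3 F (2 ^ a)) : LRow X := by
  have hp2 : Fact (Nat.Prime 2) := ⟨Nat.prime_two⟩
  have hc2 : CharP F 2 := charP_of_card_eq_prime_pow (by rw [hF, ← pow_mul])
  have hs : IsSimpleGroup (Cfsg.PSU 3 F (2 ^ a)) := simple_of_equiv e
  have hfin : Finite (Cfsg.PSU 3 F (2 ^ a)) := Finite.of_equiv X e.toEquiv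
  obtain ⟨T⟩ : Nonempty (Sylow 2 (Cfsg.PSU 3 F (2 ^ a))) := inferInstance
  have hT := Cfsg.Agent.OddHalf.Quat.UniRow.tr hF le_rfl (four_le ha) T
  refine LRow.of_equiv e.symm (lrow_of_Tr ?_ ?_ T hT)
  · refine Or.inl (Or.inr (Or.inr (Or.inl ⟨F, inferInstance, inferInstance, hc2, 3, 2 ^ a, hF, le_rfl, ?_,
      ⟨MulEquiv.refl _⟩⟩)))
    rintro ⟨-, h⟩
    have := four_le ha
    omega
  · apply not_360_of_dvd
    have h1 := Cfsg.Agent.OddHalf.Quat.UniRow.dvd_card hF (n := 3) (by omega) rfl (by omega : 1 ≤ a)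
    refine dvd_trans ?_ h1
    exact (show (16 : ℕ) = 2 ^ 4 by norm_num) ▸ pow_dvd_pow 2 (by omega)

/-- `Sz(q)` -/
theorem lrow_sz {F : Type} [Field F] [Fintype F] {m : ℕ} (hm : 1 ≤ m) (hF : Fintype.card F = 2 ^ (2 * m + 1))
    (e : X ≃* ↥(Cfsg.Lie.Sz F (2 ^ (m + 1)))) : LRow X := by
  classical
  have hs : IsSimpleGroup ↥(Cfsg.Lie.Sz F (2 ^ (m + 1))) := simple_of_equiv e
  have hfin : Finite ↥(Cfsg.Lie.Sz F (2 ^ (m + 1))) := Finite.of_equiv X e.toEquiv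
  have H := Cfsg.Agent.LieRecognition.SzMatrix.good hF
  have h8 : 2 < Fintype.card F := by
    rw [hF]
    calc 2 < 2 ^ 3 := by norm_num
      _ ≤ 2 ^ (2 * m + 1) := Nat.pow_le_pow_right (by norm_num) (by omega)
  obtain ⟨c, hc⟩ : ∃ c : F, c ∉ ({0, 1} : Finset F) := by
    by_contra hcon
    push Not at hcon
    have h1 : (Finset.univ : Finset F) ⊆ {0, 1} := fun x _ => hcon x
    have h2 := Finset.card_le_card h1
    have h3 : ({0, 1} : Finset F).card ≤ 2 := Finset.card_le_two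
    rw [Finset.card_univ] at h2
    omega
  simp only [Finset.mem_insert, Finset.mem_singleton, not_or] at hc
  have hl := Cfsg.Agent.OddHalf.Quat.SzRow.loc H ⟨c, hc.1, hc.2⟩
  obtain ⟨U, hU⟩ := hl.pgr.exists_le_sylow
  refine LRow.of_equiv e.symm (lrow_of_Tr ?_ ?_ U (hl.toTr U hU))
  · exact Or.inl (Or.inr (Or.inr (Or.inr (Or.inr (Or.inr (Or.inr (Or.inr (Or.inr (Or.inl
      ⟨rfl, F, inferInstance, inferInstance, m, hm, hF, ⟨MulEquiv.refl _⟩⟩)))))))))
  · apply not_360_of_dvd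
    have h1 : Nat.card H.unip ∣ Nat.card ↥(Cfsg.Lie.Sz F (2 ^ (m + 1))) := Subgroup.card_subgroup_dvd_card _
    rw [H.card_unip, Nat.card_eq_fintype_card, hF, ← pow_mul] at h1
    refine dvd_trans ?_ h1
    exact (show (16 : ℕ) = 2 ^ 4 by norm_num) ▸ pow_dvd_pow 2 (by omega)

end Cfsg.Agent.H587.TCR
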